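import Groth.Agent.CAlgT1.Misc6
import Mathlib

/-!
# Length of `M / x M` for a lattice over a one-dimensional local domain
-/

set_option autoImplicit false
set_option linter.style.haveILetI false

universe u

open Pointwise

namespace Groth.Agent.LatticeOrd

variable {A : Type u} [CommRing A] [IsDomain A] [IsNoetherianRing A] [Ring.KrullDimLE 1 A]

/-- A finite module torsion-free containing `A^d` with torsion cokernel has `length (M/xM) = d * ord x`. -/
theorem length_quotient_smul_eq [IsLocalRing A] {M : Type u} [AddCommGroup M] [Module A M] [Module.Finite A M]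
    [Module.IsTorsionFree A M] {d : ℕ} (ι : (Fin d → A) →ₗ[A] M) (hι : Function.Injective ι)
    (hcol : ∀ m : M, ∃ c : A, c ≠ 0 ∧ c • m ∈ LinearMap.range ι) {x : A} (hx : x ≠ 0) :
    Module.length A (M ⧸ (x • (⊤ : Submodule A M))) = d * Ring.ord A x := by
  classical
  let F := LinearMap.range ι
  have hinj : Function.Injective fun m : M => x • m := smul_right_injective M hx
  -- `M/F` has finite length
  obtain ⟨s, hs⟩ := Module.Finite.fg_top (R := A) (M := M)
  choose c hc0 hcm using hcol
  let cc := ∏ m ∈ s, c m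
  have hcc0 : cc ≠ 0 := Finset.prod_ne_zero_iff.2 fun m _ => hc0 m
  have hcc : ∀ m : M, cc • m ∈ F := by
    intro m
    have hm : m ∈ Submodule.span A (s : Set M) := hs.symm ▸ Submodule.mem_top
    induction hm using Submodule.span_induction with
    | mem m hm =>
      rw [show cc = (∏ z ∈ s.erase m, c z) * c m from (Finset.prod_erase_mul s c hm).symm, mul_smul]
      exact F.smul_mem _ (hcm m)
    | zero => rw [smul_zero]; exact F.zero_mem
    | add a b _ _ ha hb => rw [smul_add]; exact F.add_mem ha hb
    | smul r a _ ha => rw [smul_comm]; exact F.smul_mem _ ha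
  haveI : IsFiniteLength A (A ⧸ Ideal.span {cc}) :=
    isFiniteLength_quotient_span_singleton A (mem_nonZeroDivisors_of_ne_zero hcc0)
  have hfin : Module.length A (M ⧸ F) ≠ ⊤ := by
    obtain ⟨n, f, hf⟩ := Module.Finite.exists_fin' A M
    let g : (Fin n → A ⧸ Ideal.span {cc}) →ₗ[A] M ⧸ F :=
      ∑ i, (Submodule.liftQ (Ideal.span {cc} : Submodule A A)
        (F.mkQ ∘ₗ f ∘ₗ LinearMap.single A (fun _ : Fin n => A) i) (by
          refine (Submodule.span_singleton_le_iff_mem _ _).2 ?_
          rw [LinearMap.mem_ker, LinearMap.comp_apply, Submodule.mkQ_apply, Submodule.Quotient.mk_eq_zero,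
            LinearMap.comp_apply, show LinearMap.single A (fun _ : Fin n => A) i cc = cc • Pi.single i 1 by
              rw [LinearMap.single_apply, ← Pi.single_smul, smul_eq_mul, mul_one], map_smul]
          exact hcc _)) ∘ₗ LinearMap.proj i
    have hg : Function.Surjective g := by
      intro z
      obtain ⟨m, rfl⟩ := Submodule.mkQ_surjective F z
      obtain ⟨w, rfl⟩ := hf m
      refine ⟨fun i => Submodule.Quotient.mk (w i), ?_⟩
      simp only [g, LinearMap.coe_sum, Finset.sum_apply, LinearMap.comp_apply, LinearMap.proj_apply,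
        Submodule.liftQ_apply]
      rw [← map_sum F.mkQ, ← map_sum f]
      congr 2
      exact Finset.univ_sum_single w
    refine ne_top_of_le_ne_top ?_ (Module.length_le_of_surjective g hg)
    rw [Module.length_pi_of_fintype]
    exact (ENat.sum_lt_top.2 fun i _ => (Module.length_ne_top_iff.2 ‹_›).lt_top).ne
  let xF : Submodule A M := F.map (x • LinearMap.id)
  have hxFF : xF ≤ F := by
    rintro _ ⟨y, hy, rfl⟩
    exact F.smul_mem x hy
  have hxF : xF ≤ x • (⊤ : Submodule A M) := by
    rintro _ ⟨y, -, rfl⟩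
    exact Submodule.smul_mem_pointwise_smul _ _ _ trivial
  let mulx : M ⧸ F →ₗ[A] M ⧸ xF := Submodule.mapQ F xF (x • LinearMap.id) fun y hy => ⟨y, hy, rfl⟩
  have e1 := Module.length_eq_add_of_exact mulx (Submodule.factor hxF) (by
      rw [← LinearMap.ker_eq_bot, eq_bot_iff]
      intro z hz
      obtain ⟨m, rfl⟩ := Submodule.mkQ_surjective F z
      obtain ⟨y, hy, hyx⟩ := (Submodule.Quotient.mk_eq_zero _).1 (LinearMap.mem_ker.1 hz)
      exact (Submodule.Quotient.mk_eq_zero _).2 ((show y = m from hinj hyx) ▸ hy))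
    (Submodule.factor_surjective hxF) (by
      intro z
      obtain ⟨m, rfl⟩ := Submodule.mkQ_surjective xF z
      constructor
      · intro hz
        obtain ⟨y, -, hy⟩ := (Submodule.mem_smul_pointwise_iff_exists _ _ _).1 ((Submodule.Quotient.mk_eq_zero _).1 hz)
        exact ⟨Submodule.Quotient.mk y, congrArg Submodule.Quotient.mk hy⟩
      · rintro ⟨w, hw⟩
        obtain ⟨y, rfl⟩ := Submodule.mkQ_surjective F w
        rw [← hw]
        exact (Submodule.Quotient.mk_eq_zero _).2 (Submodule.smul_mem_pointwise_smul _ _ _ trivial))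
  let incl : (Fin d → A) ⧸ (x • (⊤ : Submodule A (Fin d → A))) →ₗ[A] M ⧸ xF :=
    Submodule.mapQ _ xF ι fun z hz => by
      obtain ⟨y, -, rfl⟩ := (Submodule.mem_smul_pointwise_iff_exists _ _ _).1 hz
      exact ⟨ι y, ⟨y, rfl⟩, (map_smul ι x y).symm⟩
  have e2 := Module.length_eq_add_of_exact incl (Submodule.factor hxFF) (by
      rw [← LinearMap.ker_eq_bot, eq_bot_iff]
      intro z hz
      obtain ⟨v, rfl⟩ := Submodule.mkQ_surjective _ z
      obtain ⟨_, ⟨y, rfl⟩, hy⟩ := (Submodule.Quotient.mk_eq_zero _).1 (LinearMap.mem_ker.1 hz)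
      have h1 : ι (x • y) = ι v := by rw [map_smul]; exact hy
      exact (Submodule.Quotient.mk_eq_zero _).2 (hι h1 ▸ Submodule.smul_mem_pointwise_smul _ _ _ trivial))
    (Submodule.factor_surjective hxFF) (by
      intro z
      obtain ⟨m, rfl⟩ := Submodule.mkQ_surjective xF z
      constructor
      · intro hz
        obtain ⟨v, hv⟩ := (Submodule.Quotient.mk_eq_zero _).1 hz
        exact ⟨Submodule.Quotient.mk v, congrArg Submodule.Quotient.mk hv⟩
      · rintro ⟨w, hw⟩
        obtain ⟨v, rfl⟩ := Submodule.mkQ_surjective _ w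
        rw [← hw]
        exact (Submodule.Quotient.mk_eq_zero _).2 ⟨v, rfl⟩)
  have e3 : Module.length A ((Fin d → A) ⧸ (x • (⊤ : Submodule A (Fin d → A)))) = d * Ring.ord A x := by
    let π : (Fin d → A) →ₗ[A] (Fin d → A ⧸ Ideal.span {x}) :=
      LinearMap.pi fun i => (Submodule.mkQ (Ideal.span {x} : Submodule A A)) ∘ₗ LinearMap.proj i
    have hπ : Function.Surjective π := fun w => by
      choose v hv using fun i => Submodule.mkQ_surjective (Ideal.span {x} : Submodule A A) (w i)
      exact ⟨v, funext hv⟩
    have hker : LinearMap.ker π = x • (⊤ : Submodule A (Fin d → A)) := by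
      ext v
      constructor
      · intro hv
        choose w hw using fun i => Ideal.mem_span_singleton.1
          ((Submodule.Quotient.mk_eq_zero _).1 (congrFun (LinearMap.mem_ker.1 hv) i))
        exact (Submodule.mem_smul_pointwise_iff_exists _ _ _).2 ⟨w, trivial, funext fun i => (hw i).symm⟩
      · intro hv
        obtain ⟨w, -, rfl⟩ := (Submodule.mem_smul_pointwise_iff_exists _ _ _).1 hv
        refine LinearMap.mem_ker.2 (funext fun i => (Submodule.Quotient.mk_eq_zero _).2 ?_)
        exact Ideal.mem_span_singleton.2 ⟨w i, rfl⟩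
    rw [((Submodule.quotEquivOfEq _ _ hker.symm).trans (π.quotKerEquivOfSurjective hπ)).length_eq,
      Module.length_pi_of_fintype, Finset.sum_const, Finset.card_univ, Fintype.card_fin, nsmul_eq_mul]
    rfl
  rw [e3] at e2
  rw [e1, add_comm] at e2
  exact WithTop.add_right_cancel hfin e2

end Groth.Agent.LatticeOrd
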